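import Mathlib
import Cfsg.Agent.GT.FrobAutNil
import Cfsg.Agent.FG.FreeB

/-!
A nilpotent normal operator group `F` without fixed points on a finite solvable group:
induction on invariant elementary abelian normal subgroups, and the unique invariant Sylow subgroup.
-/

set_option autoImplicit false

namespace Cfsg.Agent.KMS

open Subgroup GT GT.CopAct GT.FrobAut
open scoped Pointwise

universe u

variable {A : Type*} [Group A] {G : Type u} [Group G]

/-- `F` is a nilpotent normal subgroup of the operator group without fixed points. -/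
structure Hn (φ : A →* MulAut G) (F : Subgroup A) : Prop where
  normal : F.Normal
  nil : Group.IsNilpotent F
  fix : ∀ g, (∀ f ∈ F, φ f g = g) → g = 1

namespace Hn

variable {φ : A →* MulAut G} {F : Subgroup A} (h : Hn φ F)
include h

theorem sub {U : Subgroup G} (hU : ActInv φ U) : Hn (subHom φ U hU) F where
  normal := h.normal
  nil := h.nil
  fix g hg := Subtype.ext (h.fix g fun f hf => congrArg Subtype.val (hg f hf))

variable [Finite A] [Finite G]

theorem not_dvd (p : ℕ) [hp : Fact p.Prime] : ¬ p ∣ Nat.card (Cx φ (pPrimeCoreOf p F)) := by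
  intro hd
  have := h.normal
  have := h.nil
  have h1 := dvd_card_Cx (subHom φ _ (actInv_Cx φ (pPrimeCoreOf p F))) (isPGroup_pCoreOf p F) hd
  have h2 : Cx (subHom φ _ (actInv_Cx φ (pPrimeCoreOf p F))) (pCoreOf p F) = ⊥ := by
    refine eq_bot_iff.2 fun x hx => Subtype.ext (h.fix _ fun f hf => ?_)
    rw [← pCoreOf_sup_pPrimeCoreOf p F] at hf
    obtain ⟨a, ha, b, hb, rfl⟩ := mem_sup_of_normal_left.1 hf
    rw [map_mul, MulAut.mul_apply, mem_Cx.1 x.2 b hb]
    exact congrArg Subtype.val (mem_Cx.1 hx a ha)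
  rw [h2, card_bot] at h1
  exact hp.out.one_lt.ne' (Nat.dvd_one.1 h1)

/-- The `p'`-part of `F` has no fixed points on a `p`-subgroup. -/
theorem eq_one {p : ℕ} [Fact p.Prime] {V : Subgroup G} (hV : IsPGroup p V) {v : G} (hv : v ∈ V)
    (h1 : ∀ f ∈ pPrimeCoreOf p F, φ f v = v) : v = 1 := by
  obtain ⟨k, hk⟩ := IsPGroup.iff_orderOf.1 hV ⟨v, hv⟩
  rw [← Subgroup.orderOf_coe] at hk
  rcases k with _ | k
  · exact orderOf_eq_one_iff.1 hk
  · exact absurd ((dvd_pow_self p k.succ_ne_zero).trans (hk ▸ orderOf_dvd_natCard _ (mem_Cx.2 h1)))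
      (h.not_dvd p)

theorem quot {p : ℕ} [Fact p.Prime] {V : Subgroup G} [V.Normal]
    (hp : IsPGroup p V) (hV : ActInv φ V) : Hn (quotHom φ V hV) F where
  normal := h.normal
  nil := h.nil
  fix g hg := by
    have := h.normal
    obtain ⟨g, rfl⟩ := QuotientGroup.mk_surjective g
    obtain ⟨c, hc, h1⟩ := act_exists_fixed_inv_mul_mem (φ := φ.comp (pPrimeCoreOf p F).subtype)
      (fun a => hV a) (by
        obtain ⟨k, hk⟩ := hp.exists_card_eq
        rw [hk]; exact (coprime_card_pPrimeCoreOf p F).pow_right k)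
      (Or.inr (isSolvable_of_isPGroup hp)) (g := g)
      fun a => QuotientGroup.eq.1 (hg a (pPrimeCoreOf_le F a.2)).symm
    rw [QuotientGroup.eq.2 h1] at hg ⊢
    rw [h.fix c fun f hf => ?_, QuotientGroup.mk_one]
    exact (inv_mul_eq_one.1 (h.eq_one hp (QuotientGroup.eq.1 (hg f hf).symm)
      (mem_Cx.1 (mul_mem (inv_mem hc) (actInv_Cx φ _ f c hc))))).symm

end Hn

/-- A nontrivial solvable group has an invariant elementary abelian normal subgroup. -/
theorem exists_elem [Finite G] [Group.IsSolvable G] [Nontrivial G] (φ : A →* MulAut G) :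
    ∃ V : Subgroup G, V ≠ ⊥ ∧ V.Normal ∧ ActInv φ V ∧ IsMulCommutative V ∧
      ∃ r, r.Prime ∧ ∀ x ∈ V, x ^ r = 1 := by
  obtain ⟨V, -, a1, a2, a3, a4, ⟨r, hr, a5⟩, hm⟩ := exists_min φ (N := fittingSubgroup G)
    (actInv_of_characteristic φ _) fitting_ne_bot inferInstance
  have := Fact.mk hr
  refine ⟨V, a1, a2, a3, a4, r, hr, ?_⟩
  let _ : CommGroup V := { (inferInstance : Group V) with mul_comm := a4.is_comm.comm }
  have hc : (powMonoidHom r : V →* V).ker.Characteristic := by
    refine characteristic_iff_comap_eq.2 fun e => ?_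
    ext x
    simp only [mem_comap, MonoidHom.mem_ker, powMonoidHom_apply]
    change e x ^ r = 1 ↔ _
    rw [← map_pow, e.map_eq_one_iff]
  have := (nontrivial_iff_ne_bot V).2 a1
  obtain ⟨k, hk0, hk⟩ := a5.nontrivial_iff_card.1 inferInstance
  obtain ⟨x, hx⟩ := exists_prime_orderOf_dvd_card' (G := V) r (hk ▸ dvd_pow_self r hk0.ne')
  have h1 := hm _ (map_subtype_le (powMonoidHom r : V →* V).ker) (fun e => by
    have h2 : (x : G) ∈ (powMonoidHom r : V →* V).ker.map V.subtype :=
      ⟨x, by rw [SetLike.mem_coe, MonoidHom.mem_ker, powMonoidHom_apply, ← hx, pow_orderOf_eq_one], rfl⟩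
    rw [e, mem_bot] at h2
    rw [show x = 1 from Subtype.ext h2, orderOf_one] at hx
    exact hr.one_lt.ne hx) inferInstance (actInv_map a3 _)
  intro y hy
  obtain ⟨z, hz, rfl⟩ := h1 hy
  exact congrArg Subtype.val (show z ^ r = 1 from hz)

theorem isPGroup_of_pow {V : Subgroup G} {r : ℕ} (h : ∀ x ∈ V, x ^ r = 1) : IsPGroup r V :=
  fun x => ⟨1, Subtype.ext (by simpa using h x x.2)⟩

/-- Induction on invariant elementary abelian normal subgroups. -/
theorem ind [Finite A] (F : Subgroup A)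
    (P : ∀ (G : Type u) [Group G] [Finite G], (A →* MulAut G) → Prop)
    (h0 : ∀ (G : Type u) [Group G] [Finite G] [Subsingleton G] (φ : A →* MulAut G), P G φ)
    (h1 : ∀ (G : Type u) [Group G] [Finite G] (φ : A →* MulAut G), Hn φ F →
      ∀ (V : Subgroup G) [V.Normal] (hV : ActInv φ V), IsMulCommutative V →
        ∀ (r : ℕ) [Fact r.Prime], (∀ x ∈ V, x ^ r = 1) → P (G ⧸ V) (quotHom φ V hV) → P G φ)
    (G : Type u) [Group G] [Finite G] [Group.IsSolvable G] (φ : A →* MulAut G) (h : Hn φ F) :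
    P G φ := by
  obtain ⟨n, hn⟩ : ∃ n, Nat.card G = n := ⟨_, rfl⟩
  induction n using Nat.strong_induction_on generalizing G with | _ n ih => ?_
  rcases subsingleton_or_nontrivial G with _ | _
  · exact h0 G φ
  obtain ⟨V, a1, a2, a3, a4, r, hr, a5⟩ := exists_elem φ
  have := Fact.mk hr
  refine h1 G φ h V a3 a4 r a5 (ih _ ?_ _ _ (h.quot (isPGroup_of_pow a5) a3) rfl)
  rw [← hn, card_eq_card_quotient_mul_card_subgroup V]
  exact lt_mul_of_one_lt_right Nat.card_pos ((one_lt_card_iff_ne_bot V).2 a1)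

theorem sylow_conj [Finite G] {p : ℕ} [Fact p.Prime] (V : Subgroup G) [V.Normal] (P Q : Sylow p G)
    (e : (P : Subgroup G).map (QuotientGroup.mk' V) = (Q : Subgroup G).map (QuotientGroup.mk' V)) :
    ∃ v ∈ V, v • P = Q := by
  have h1 : (Q : Subgroup G) ≤ V ⊔ P := by
    have := congrArg (comap (QuotientGroup.mk' V)) e
    rw [comap_map_eq, comap_map_eq, QuotientGroup.ker_mk'] at this
    rw [sup_comm, this]; exact le_sup_left
  obtain ⟨⟨u, hu⟩, h2⟩ := MulAction.exists_smul_eq (V ⊔ (P : Subgroup G) : Subgroup G)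
    (P.subtype le_sup_right) (Q.subtype h1)
  rw [Sylow.smul_subtype] at h2
  have h3 : u • P = Q := Sylow.subtype_injective h2
  obtain ⟨v, hv, x, hx, rfl⟩ := mem_sup_of_normal_left.1 hu
  refine ⟨v, hv, ?_⟩
  rw [← h3, mul_smul, Sylow.smul_eq_iff_mem_normalizer.2 (le_normalizer hx)]

theorem actInv_iff_smul [Finite G] {p : ℕ} {B : Type*} [Group B] (ψ : B →* MulAut G) (P : Sylow p G) :
    ActInv ψ P ↔ ∀ b, ψ b • P = P := by
  rw [actInv_iff_map_eq]
  exact forall_congr' fun b => ⟨fun e => Sylow.ext e, fun e => congrArg Sylow.toSubgroup e⟩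

/-- There is exactly one `F`-invariant Sylow `p`-subgroup. -/
theorem Hn.sylow [Finite A] [Finite G] [Group.IsSolvable G] {φ : A →* MulAut G} {F : Subgroup A}
    (h : Hn φ F) (p : ℕ) [Fact p.Prime] : ∃! P : Sylow p G, ∀ f ∈ F, φ f • P = P := by
  refine ind F (fun G _ _ φ => ∃! P : Sylow p G, ∀ f ∈ F, φ f • P = P) ?_ ?_ G φ h
  · intro G _ _ _ φ
    have : Subsingleton (Sylow p G) := ⟨fun P Q => Sylow.ext (Subsingleton.elim _ _)⟩
    exact ⟨default, fun _ _ => Subsingleton.elim _ _, fun _ _ => Subsingleton.elim _ _⟩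
  intro G _ _ φ h V _ hV _ r _ hr ⟨R, hR, hu⟩
  have := h.normal
  have hp := isPGroup_of_pow hr
  have hs := QuotientGroup.mk'_surjective V
  have key : ∀ (a : A) (P : Sylow p G), (φ a • P).mapSurjective hs =
      quotHom φ V hV a • P.mapSurjective hs := fun a P => Sylow.ext (by
    change ((P : Subgroup G).map (φ a).toMonoidHom).map _ =
      ((P : Subgroup G).map _).map (quotHom φ V hV a).toMonoidHom
    rw [map_map, map_map]; rfl)
  have key2 : ∀ v ∈ V, ∀ P : Sylow p G, (v • P).mapSurjective hs = P.mapSurjective hs :=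
    fun v hv P => Sylow.ext (by
      change ((P : Subgroup G).map (MulAut.conj v).toMonoidHom).map _ = (P : Subgroup G).map _
      rw [map_map]
      congr 1
      ext x
      change ((v * x * v⁻¹ : G) : G ⧸ V) = x
      rw [QuotientGroup.mk_mul, QuotientGroup.mk_mul, QuotientGroup.mk_inv,
        (QuotientGroup.eq_one_iff v).2 hv, one_mul, inv_one, mul_one])
  have cj : ∀ P Q : Sylow p G, P.mapSurjective hs = Q.mapSurjective hs → ∃ v : V, v • P = Q :=
    fun P Q e => by
      obtain ⟨v, hv, e⟩ := sylow_conj V P Q (congrArg Sylow.toSubgroup e)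
      exact ⟨⟨v, hv⟩, e⟩
  set B := pPrimeCoreOf r F with hB
  let _ : MulAction B (Sylow p G) := MulAction.compHom _ (φ.comp B.subtype)
  have hsm : ∀ (b : B) (P : Sylow p G), b • P = φ b • P := fun _ _ => rfl
  have hcop : (Nat.card B).Coprime (Nat.card V) := by
    obtain ⟨k, hk⟩ := hp.exists_card_eq
    rw [hk]; exact (coprime_card_pPrimeCoreOf r F).pow_right k
  have hc : ∀ (b : B) (v : V) (P : Sylow p G),
      b • v • P = ((subHom φ V hV).comp B.subtype) b v • b • P := fun b v P => by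
    change φ b • MulAut.conj (v : G) • P = MulAut.conj (φ b v) • φ b • P
    rw [← mul_smul, ← mul_smul]
    congr 1
    ext x
    simp
  have uq : ∀ P Q : Sylow p G, P.mapSurjective hs = Q.mapSurjective hs → (∀ b : B, b • P = P) →
      (∀ b : B, b • Q = Q) → P = Q := fun P Q e h1 h2 => by
    obtain ⟨v, rfl⟩ := cj P Q e
    obtain ⟨c, hc1, hc2⟩ := act_glauberman_conj hcop (Or.inr (isSolvable_of_isPGroup hp)) hc h1 h2
    rw [← hc2, show c = 1 from Subtype.ext (h.eq_one hp c.2 fun f hf =>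
      congrArg Subtype.val (hc1 ⟨f, hf⟩)), one_smul]
  obtain ⟨Q, rfl⟩ := Sylow.mapSurjective_surjective hs p R
  obtain ⟨k, hk⟩ := act_glauberman hcop (Or.inr (isSolvable_of_isPGroup hp)) hc (ω := Q) fun b => by
    obtain ⟨v, hv⟩ := cj Q (φ b • Q) (by rw [key, hR _ (pPrimeCoreOf_le F b.2)])
    exact ⟨v, hv.symm⟩
  have e0 : (k • Q).mapSurjective hs = Q.mapSurjective hs := key2 k k.2 Q
  refine ⟨k • Q, fun f hf => uq _ _ (by rw [key, e0, hR f hf]) (fun b => ?_) hk, fun P hP =>
    uq _ _ (by rw [e0]; exact hu _ fun f hf => by rw [← key, hP f hf])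
      (fun b => hP b (pPrimeCoreOf_le F b.2)) hk⟩
  have h3 := hk ⟨f⁻¹ * b * f⁻¹⁻¹, Normal.conj_mem inferInstance _ b.2 _⟩
  rw [hsm] at h3 ⊢
  rw [← mul_smul, ← map_mul, show (b : A) * f = f * (f⁻¹ * b * f⁻¹⁻¹) by group, map_mul, mul_smul, h3]

end Cfsg.Agent.KMS
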