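import Mathlib
import Cfsg.Agent.KMS.Bas

/-!
A Frobenius group `FH` of operators with `C_G(F) = 1` on a finite solvable group: covering of fixed
points, the order formula and generation by the translates of `C_G(H)`.
-/

set_option autoImplicit false

namespace Cfsg.Agent.KMS

open Subgroup GT GT.CopAct GT.FrobAut
open scoped Pointwise

universe u

variable {A : Type*} [Group A] [Finite A] {G : Type u} [Group G] [Finite G]
  {φ : A →* MulAut G} {F H : Subgroup A}

/-- The nonabelian first cohomology of the complement vanishes. -/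
theorem Hn.cocycle [Group.IsSolvable G] (h : Hn φ F) (hF : Fr F H) (δ : H → G)
    (hδ : ∀ a b : H, δ (a * b) = δ a * φ a (δ b)) : ∃ n, ∀ a : H, δ a = n⁻¹ * φ a n := by
  revert δ
  refine ind F (fun G _ _ φ => ∀ δ : H → G, (∀ a b : H, δ (a * b) = δ a * φ a (δ b)) →
    ∃ n, ∀ a : H, δ a = n⁻¹ * φ a n) ?_ ?_ G φ h
  · intro G _ _ _ φ δ _
    exact ⟨1, fun _ => Subsingleton.elim _ _⟩
  intro G _ _ φ h V _ hV hab r _ hr ih δ hδ
  obtain ⟨n, hn⟩ := ih (fun a => (δ a : G ⧸ V)) fun a b => by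
    rw [hδ, QuotientGroup.mk_mul, quotHom_mk]
  obtain ⟨n, rfl⟩ := QuotientGroup.mk_surjective n
  have h1 : ∀ a : H, n * δ a * (φ a n)⁻¹ ∈ V := fun a => by
    rw [← QuotientGroup.eq_one_iff, QuotientGroup.mk_mul, QuotientGroup.mk_mul, hn a, quotHom_mk,
      QuotientGroup.mk_inv]
    group
  let _ : CommGroup V := { (inferInstance : Group V) with mul_comm := hab.is_comm.comm }
  obtain ⟨m, hm⟩ := FrobAut.cocycle (M := V) (subHom φ V hV) hF (h.sub hV).fix
    (fun a => ⟨_, h1 a⟩) (fun a b => Subtype.ext (by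
      change n * δ (a * b) * (φ (a * b) n)⁻¹ =
        n * δ a * (φ a n)⁻¹ * φ a (n * δ b * (φ b n)⁻¹)
      rw [hδ, map_mul φ, MulAut.mul_apply, map_mul (φ a), map_mul (φ a), map_inv]; group))
  refine ⟨m * n, fun a => ?_⟩
  have h2 := hm a
  rw [mul_comm] at h2
  have h3 : n * δ a * (φ a n)⁻¹ = (m : G)⁻¹ * φ a m := congrArg Subtype.val h2
  rw [map_mul, mul_inv_rev, mul_assoc, ← mul_assoc (m : G)⁻¹, ← h3]; group

omit [Finite G] in
/-- Fixed points of the complement lift modulo an invariant solvable subgroup. -/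
theorem exists_lift (hF : Fr F H) {N : Subgroup G} [Finite N] [Group.IsSolvable N] (hN : ActInv φ N)
    (h : Hn (subHom φ N hN) F) {g : G} (hg : ∀ a ∈ H, g⁻¹ * φ a g ∈ N) :
    ∃ c, (∀ a ∈ H, φ a c = c) ∧ c⁻¹ * g ∈ N := by
  obtain ⟨n, hn⟩ := h.cocycle hF (fun a => ⟨_, hg a a.2⟩) fun a b => Subtype.ext (by
    change g⁻¹ * φ (a * b) g = g⁻¹ * φ a g * φ a (g⁻¹ * φ b g)
    rw [map_mul φ, MulAut.mul_apply, map_mul (φ a), map_inv]; group)
  refine ⟨g * (n : G)⁻¹, fun a ha => ?_, by simp⟩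
  have h2 : g⁻¹ * φ a g = (n : G)⁻¹ * φ a n := congrArg Subtype.val (hn ⟨a, ha⟩)
  rw [map_mul, map_inv, inv_mul_eq_iff_eq_mul.1 h2]; group

/-- The linear representation on an elementary abelian group. -/
def rep {V : Type u} [CommGroup V] (φ : A →* MulAut V) (r : ℕ) [Module (ZMod r) (Additive V)] :
    Representation (ZMod r) A (Additive V) where
  toFun a := (MonoidHom.toAdditive (φ a).toMonoidHom).toZModLinearMap r
  map_one' := by ext x; simp
  map_mul' a b := by ext x; simp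

theorem Hn.free_aux {V : Type u} [CommGroup V] [Finite V] {φ : A →* MulAut V} (h : Hn φ F)
    (hF : Fr F H) (r : ℕ) [hr : Fact r.Prime] [Module (ZMod r) (Additive V)]
    (hV : ∀ x : V, x ^ r = 1) [Fintype H] :
    ∃ W : Subgroup V, (∀ v, ∃ w : H → V, (∀ a, w a ∈ W) ∧ v = ∏ a : H, φ a (w a)) ∧
      ∀ w : H → V, (∀ a, w a ∈ W) → ∏ a : H, φ a (w a) = 1 → ∀ a, w a = 1 := by
  classical
  have := h.normal
  have := h.nil
  let ρ := rep φ r
  set Z := pPrimeCoreOf r F with hZ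
  have := Fintype.ofFinite Z
  have : Group.IsNilpotent Z := isNilpotent_of_injective _ (inclusion_injective (pPrimeCoreOf_le F))
  obtain ⟨W, h1, h2⟩ := FG.Free.main (k := ZMod r) (H := H) _ Z
    (fun a : H => (MulAut.conjNormal (a : A)).toMonoidHom) rfl
    (fun a => (MulAut.conjNormal (a : A)).injective) (fun a ha z hz => by
      have e : (a : A) * z * (a : A)⁻¹ = z := congrArg Subtype.val hz
      exact Subtype.ext (hF.fpf a a.2 (fun e => ha (Subtype.ext e)) z (pPrimeCoreOf_le F z.2)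
        (mul_inv_eq_iff_eq_mul.1 e)))
    (by
      rw [← Nat.card_eq_fintype_card, Ne, ZMod.natCast_eq_zero_iff]
      exact hr.out.coprime_iff_not_dvd.1 (coprime_card_pPrimeCoreOf r F).symm)
    _ (Additive V) (ρ.comp Z.subtype) (ρ.comp H.subtype) rfl
    (fun a z => by
      change ρ a * ρ z = ρ (a * z * (a : A)⁻¹) * ρ a
      rw [← map_mul, ← map_mul, inv_mul_cancel_right])
    fun v hv => h.eq_one (V := ⊤) (isPGroup_of_pow fun x _ => hV x) (mem_top v.toMul)
      fun f hf => congrArg Additive.toMul (hv ⟨f, hf⟩)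
  refine ⟨W.toAddSubgroup.toSubgroup', fun v => ?_, fun w hw e a => ?_⟩
  · obtain ⟨w, a1, a2⟩ := h1 (Additive.ofMul v)
    refine ⟨fun a => (w a).toMul, a1, ?_⟩
    have := congrArg Additive.toMul a2
    rwa [toMul_sum] at this
  · exact h2 (fun a => Additive.ofMul (w a)) hw (by
      have := congrArg Additive.ofMul e
      rwa [ofMul_prod] at this) a

/-- An elementary abelian group is a free module for the complement. -/
theorem Hn.free {V : Type u} [CommGroup V] [Finite V] {φ : A →* MulAut V} (h : Hn φ F)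
    (hF : Fr F H) (r : ℕ) [hr : Fact r.Prime] (hV : ∀ x : V, x ^ r = 1) [Fintype H] :
    ∃ W : Subgroup V, (∀ v, ∃ w : H → V, (∀ a, w a ∈ W) ∧ v = ∏ a : H, φ a (w a)) ∧
      ∀ w : H → V, (∀ a, w a ∈ W) → ∏ a : H, φ a (w a) = 1 → ∀ a, w a = 1 :=
  @Hn.free_aux _ _ _ _ _ _ _ _ _ h hF r hr (AddCommGroup.zmodModule fun x => by
    change Additive.ofMul (x.toMul ^ r) = 0
    rw [hV]; rfl) hV _

theorem Hn.card_elem {V : Type u} [CommGroup V] [Finite V] {φ : A →* MulAut V} (h : Hn φ F)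
    (hF : Fr F H) (r : ℕ) [hr : Fact r.Prime] (hV : ∀ x : V, x ^ r = 1) :
    Nat.card V = Nat.card (Cx φ H) ^ Nat.card H := by
  classical
  have := Fintype.ofFinite H
  obtain ⟨W, h1, h2⟩ := h.free hF r hV
  let s : (H → W) →* V :=
    { toFun := fun w => ∏ a : H, φ a (w a)
      map_one' := by simp
      map_mul' := fun v w => by simp [Finset.prod_mul_distrib] }
  have hs : Function.Bijective s := ⟨(injective_iff_map_eq_one s).2 fun w e =>
    funext fun a => Subtype.ext (h2 _ (fun a => (w a).2) e a), fun v => by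
      obtain ⟨w, a1, a2⟩ := h1 v
      exact ⟨fun a => ⟨w a, a1 a⟩, a2.symm⟩⟩
  have e1 : Nat.card W = Nat.card (Cx φ H) := by
    refine Nat.card_eq_of_bijective
      (fun w => ⟨s fun _ => w, mem_Cx.2 fun g hg => norm_fixed φ H _ hg⟩) ⟨fun v w e => ?_, ?_⟩
    · exact congrFun (hs.1 (congrArg Subtype.val e)) 1
    rintro ⟨c, hc⟩
    obtain ⟨w, rfl⟩ := hs.2 c
    refine ⟨w 1, Subtype.ext (congrArg s (funext fun b => ?_))⟩
    have h3 : s (fun a => w (b * a)) = s w := by
      conv_rhs => rw [← mem_Cx.1 hc b⁻¹ (b⁻¹).2]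
      change ∏ a : H, φ a (w (b * a)) = φ _ (∏ a : H, φ a (w a))
      rw [map_prod, ← Equiv.prod_comp (Equiv.mulLeft b) fun a : H => φ (b : A)⁻¹ (φ a (w a))]
      refine Finset.prod_congr rfl fun a _ => ?_
      rw [← MulAut.mul_apply, ← map_mul]
      simp
    simpa using (congrFun (hs.1 h3) 1).symm
  rw [← e1, ← Nat.card_eq_of_bijective s hs, Nat.card_fun]

theorem Hn.surj_Cx (h : Hn φ F) (hF : Fr F H) {V : Subgroup G} [V.Normal] [Group.IsSolvable V]
    (hV : ActInv φ V) : (Cx φ H).map (QuotientGroup.mk' V) = Cx (quotHom φ V hV) H := by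
  refine le_antisymm ?_ fun g hg => ?_
  · rintro _ ⟨c, hc, rfl⟩
    exact mem_Cx.2 fun a ha => congrArg (QuotientGroup.mk (s := V)) (mem_Cx.1 hc a ha)
  obtain ⟨g, rfl⟩ := QuotientGroup.mk_surjective g
  obtain ⟨c, hc, h1⟩ := exists_lift hF hV (h.sub hV) (g := g)
    fun a ha => QuotientGroup.eq.1 (mem_Cx.1 hg a ha).symm
  exact ⟨c, mem_Cx.2 hc, QuotientGroup.eq.2 h1⟩

/-- The order formula. -/
theorem Hn.card [Group.IsSolvable G] (h : Hn φ F) (hF : Fr F H) :
    Nat.card G = Nat.card (Cx φ H) ^ Nat.card H := by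
  refine ind F (fun G _ _ φ => Nat.card G = Nat.card (Cx φ H) ^ Nat.card H) ?_ ?_ G φ h
  · intro G _ _ _ φ
    rw [Nat.card_unique, Nat.card_unique, one_pow]
  intro G _ _ φ h V _ hV hab r _ hr ih
  let _ : CommGroup V := { (inferInstance : Group V) with mul_comm := hab.is_comm.comm }
  have h1 := (h.sub hV).card_elem hF r fun x => Subtype.ext (hr x x.2)
  have h2 : Nat.card (Cx φ H) = Nat.card (Cx (quotHom φ V hV) H) * Nat.card (Cx (subHom φ V hV) H) := by
    rw [← h.surj_Cx hF hV, card_eq_card_quotient_mul_card_subgroup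
      ((QuotientGroup.mk' V).comp (Cx φ H).subtype).ker,
      Nat.card_congr (QuotientGroup.quotientKerEquivRange _).toEquiv, MonoidHom.range_comp,
      range_subtype]
    congr 1
    refine Nat.card_eq_of_bijective (fun x => ⟨⟨x.1.1, (QuotientGroup.eq_one_iff _).1 x.2⟩,
      mem_Cx.2 fun a ha => Subtype.ext (mem_Cx.1 x.1.2 a ha)⟩) ⟨fun x y e => ?_, fun x => ?_⟩
    · exact Subtype.ext (Subtype.ext (congrArg (fun z : Cx (subHom φ V hV) H => z.1.1) e))
    · exact ⟨⟨⟨x.1.1, mem_Cx.2 fun a ha => congrArg Subtype.val (mem_Cx.1 x.2 a ha)⟩,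
        (QuotientGroup.eq_one_iff _).2 x.1.2⟩, rfl⟩
  rw [card_eq_card_quotient_mul_card_subgroup V, ih, h1, h2, mul_pow]

/-- Generation by the translates of the fixed points of the complement. -/
theorem Hn.gen [Group.IsSolvable G] (h : Hn φ F) (hF : Fr F H) :
    closure {x : G | ∃ f ∈ F, ∃ c, (∀ a ∈ H, φ a c = c) ∧ x = φ f c} = ⊤ := by
  refine ind F (fun G _ _ φ =>
    closure {x : G | ∃ f ∈ F, ∃ c, (∀ a ∈ H, φ a c = c) ∧ x = φ f c} = ⊤) ?_ ?_ G φ h
  · intro G _ _ _ φ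
    exact Subsingleton.elim _ _
  intro G _ _ φ h V _ hV hab r _ hr ih
  classical
  have := h.normal
  let _ : CommGroup V := { (inferInstance : Group V) with mul_comm := hab.is_comm.comm }
  set K := closure {x : G | ∃ f ∈ F, ∃ c, (∀ a ∈ H, φ a c = c) ∧ x = φ f c} with hK
  have h1 : V ≤ K := fun x hx => by
    have := Fintype.ofFinite H
    have := Fintype.ofFinite (pPrimeCoreOf r F)
    have hp := isPGroup_of_pow hr
    have h2 := prod_norm (subHom φ V hV) (hF.mono inferInstance (pPrimeCoreOf_le (p := r) F))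
      (fun m hm => Subtype.ext (h.eq_one hp m.2 fun f hf => congrArg Subtype.val (hm f hf))) ⟨x, hx⟩
    have h3 : (⟨x, hx⟩ : V) ^ Nat.card (pPrimeCoreOf r F) ∈ K.subgroupOf V := by
      rw [← h2]
      exact prod_mem fun g _ => mem_subgroupOf.2 (subset_closure ⟨g, pPrimeCoreOf_le F g.2, _,
        fun a ha => congrArg Subtype.val (norm_fixed (subHom φ V hV) H _ ha), rfl⟩)
    obtain ⟨k, hk⟩ := exists_pow_eq_self_of_coprime (x := x) (n := Nat.card (pPrimeCoreOf r F))
      ((coprime_card_pPrimeCoreOf r F).coprime_dvd_right (orderOf_dvd_of_pow_eq_one (hr x hx)))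
    rw [← hk]
    exact pow_mem (mem_subgroupOf.1 h3) k
  have h2 : K.map (QuotientGroup.mk' V) = ⊤ := by
    refine top_le_iff.1 (ih ▸ (closure_le _).2 ?_)
    rintro _ ⟨f, hf, c, hc, rfl⟩
    have h3 : c ∈ (Cx φ H).map (QuotientGroup.mk' V) := h.surj_Cx hF hV ▸ mem_Cx.2 hc
    obtain ⟨c, h4, rfl⟩ := h3
    exact ⟨φ f c, subset_closure ⟨f, hf, c, mem_Cx.1 h4, rfl⟩, rfl⟩
  have h3 := congrArg (comap (QuotientGroup.mk' V)) h2
  rwa [comap_map_eq, QuotientGroup.ker_mk', sup_eq_left.2 h1, comap_top] at h3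

end Cfsg.Agent.KMS
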